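import Cfsg.Agent.Lib.CosetEnum.Sound

/-!
# Rewriting certificates in Coxeter groups

A word is reduced by commutations, braid moves and cancellations; this preserves its value in every
group satisfying the Coxeter relations.
-/

set_option autoImplicit false

namespace CfsgLib.Fi23Mult

open CfsgLib.CosetEnum

/-- one move at the head: cancel, commute or braid -/
def mvHead (E : ℕ → ℕ → Bool) (K k : ℕ) : List ℕ → Option (List ℕ)
  | a :: b :: l =>
    bif Nat.blt a K && Nat.blt b K then
      bif Nat.beq k 0 then (bif Nat.beq a b then some l else none)
      else bif Nat.beq k 1 then (bif !Nat.beq a b && !E a b then some (b :: a :: l) else none)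
      else
        match l with
        | c :: l' => bif E a b && Nat.beq a c then some (b :: a :: b :: l') else none
        | [] => none
    else none
  | _ => none

/-- one move at a position -/
def mvAt (E : ℕ → ℕ → Bool) (K k : ℕ) : ℕ → List ℕ → Option (List ℕ)
  | 0, w => mvHead E K k w
  | i + 1, x :: l => (mvAt E K k i l).map (x :: ·)
  | _ + 1, [] => none

/-- a sequence of moves, each coded as four times the position plus the kind -/
def runMoves (E : ℕ → ℕ → Bool) (K : ℕ) : List ℕ → List ℕ → Option (List ℕ)
  | [], w => some w
  | m :: ms, w =>
    match mvAt E K (m % 4) (m / 4) w with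
    | none => none
    | some w' => runMoves E K ms w'

/-- the moves reduce the word to the empty word -/
def reduces (E : ℕ → ℕ → Bool) (K : ℕ) (ms : List (List ℕ)) (w : List ℕ) : Bool :=
  match runMoves E K ms.flatten w with
  | some [] => true
  | _ => false

/-- the Coxeter relations for a simply laced diagram -/
structure CoxLifts {Γ : Type*} [Group Γ] (E : ℕ → ℕ → Bool) (K : ℕ) (t : ℕ → Γ) : Prop where
  sq : ∀ a < K, t a * t a = 1
  comm : ∀ a < K, ∀ b < K, E a b = false → Commute (t a) (t b)
  braid : ∀ a < K, ∀ b < K, E a b = true → t a * t b * t a = t b * t a * t b

variable {Γ : Type*} [Group Γ] {E : ℕ → ℕ → Bool} {K : ℕ} {t : ℕ → Γ}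

theorem mvHead_prod (h : CoxLifts E K t) {k : ℕ} {w w' : List ℕ} (e : mvHead E K k w = some w') :
    prodW t w = prodW t w' := by
  match w, e with
  | [], e => simp [mvHead] at e
  | [_], e => simp [mvHead] at e
  | a :: b :: l, e =>
    simp only [mvHead] at e
    cases hab : (Nat.blt a K && Nat.blt b K) with
    | false => simp [hab] at e
    | true =>
      simp only [Bool.and_eq_true, Nat.blt_eq] at hab
      obtain ⟨ha, hb⟩ := hab
      rw [show Nat.blt a K = true from Nat.blt_eq ▸ ha, show Nat.blt b K = true from Nat.blt_eq ▸ hb,
        Bool.and_self, cond_true] at e
      cases h0 : Nat.beq k 0 with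
      | true =>
        rw [h0, cond_true] at e
        cases hx : Nat.beq a b with
        | false => simp [hx] at e
        | true =>
          rw [hx, cond_true, Option.some.injEq] at e
          subst e
          obtain rfl := Nat.eq_of_beq_eq_true hx
          rw [prodW_cons, prodW_cons, ← mul_assoc, h.sq a ha, one_mul]
      | false =>
        rw [h0, cond_false] at e
        cases h1 : Nat.beq k 1 with
        | true =>
          rw [h1, cond_true] at e
          cases hx : (!Nat.beq a b && !E a b) with
          | false => simp [hx] at e
          | true =>
            rw [hx, cond_true, Option.some.injEq] at e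
            subst e
            simp only [Bool.and_eq_true, Bool.not_eq_true'] at hx
            simp only [prodW_cons]
            rw [← mul_assoc, (h.comm a ha b hb hx.2).eq, mul_assoc]
        | false =>
          rw [h1, cond_false] at e
          match l, e with
          | [], e => simp at e
          | c :: l', e =>
            simp only at e
            cases hx : (E a b && Nat.beq a c) with
            | false => simp [hx] at e
            | true =>
              rw [hx, cond_true, Option.some.injEq] at e
              subst e
              simp only [Bool.and_eq_true] at hx
              obtain rfl := Nat.eq_of_beq_eq_true hx.2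
              simp only [prodW_cons]
              rw [← mul_assoc, ← mul_assoc, h.braid a ha b hb hx.1, mul_assoc, mul_assoc]

theorem mvAt_prod (h : CoxLifts E K t) {k : ℕ} : ∀ {i : ℕ} {w w' : List ℕ},
    mvAt E K k i w = some w' → prodW t w = prodW t w' := by
  intro i
  induction i with
  | zero => intro w w' e; exact mvHead_prod h e
  | succ i ih =>
    intro w w' e
    cases w with
    | nil => simp [mvAt] at e
    | cons x l =>
      simp only [mvAt, Option.map_eq_some_iff] at e
      obtain ⟨v, hv, rfl⟩ := e
      rw [prodW_cons, prodW_cons, ih hv]

theorem runMoves_prod (h : CoxLifts E K t) : ∀ {ms w w' : List ℕ},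
    runMoves E K ms w = some w' → prodW t w = prodW t w' := by
  intro ms
  induction ms with
  | nil => intro w w' e; simp only [runMoves, Option.some.injEq] at e; rw [e]
  | cons m ms ih =>
    intro w w' e
    simp only [runMoves] at e
    cases hm : mvAt E K (m % 4) (m / 4) w with
    | none => simp [hm] at e
    | some v =>
      rw [hm] at e
      exact (mvAt_prod h hm).trans (ih e)

theorem reduces_prod (h : CoxLifts E K t) {ms : List (List ℕ)} {w : List ℕ}
    (e : reduces E K ms w = true) : prodW t w = 1 := by
  unfold reduces at e
  cases hr : runMoves E K ms.flatten w with
  | none => simp [hr] at e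
  | some v =>
    cases v with
    | nil => simpa using runMoves_prod h hr
    | cons x l => simp [hr] at e

end CfsgLib.Fi23Mult
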