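import Cfsg.Agent.Lib.Fi23Pres.Out
import Cfsg.Agent.Lib.Fi23Mult.Moves
import Cfsg.Agent.Lib.Fi23Mult.Data

/-!
Kernel checks for the Schur multiplier of the presented Fischer group Fi23.
-/

set_option autoImplicit false
set_option Elab.async false
set_option maxRecDepth 100000

namespace CfsgLib.Fi23Mult

open CfsgLib.CosetEnum CfsgLib.Fi23Pres

/-- the edges of the diagram -/
def edgeList : List (ℕ × ℕ) :=
  [(0, 1), (1, 2), (2, 3), (3, 4), (3, 7), (4, 5), (5, 6), (6, 9), (7, 8)]

/-- adjacency in the diagram -/
def edge (a b : ℕ) : Bool :=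
  edgeList.any fun p => (Nat.beq p.1 a && Nat.beq p.2 b) || (Nat.beq p.1 b && Nat.beq p.2 a)

/-- the parent of a node in the tree -/
def par (g : ℕ) : ℕ := [0, 0, 1, 2, 3, 4, 5, 3, 7, 6].getD g 0

/-- the spider element -/
def spider : List ℕ := [3, 2, 1, 3, 4, 5, 3, 7, 8]

/-- a Coxeter element of a subdiagram of type E₇ -/
def coxEl : List ℕ := [0, 1, 2, 3, 4, 5, 7]

/-- a conjugate of a generator -/
def tw (p : List ℕ × ℕ) : List ℕ := p.1 ++ p.2 :: p.1.reverse

/-- letters in range -/
def okW (u : List ℕ) : Bool := u.all fun g => Nat.blt g 10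

/-- equality in the group -/
noncomputable def wq (u v : List ℕ) : Bool := okW u && okW v && sameBases certA levels u v

theorem wq_spec {u v : List ℕ} (h : wq u v = true) : prodW gen u = prodW gen v := by
  simp only [wq, Bool.and_eq_true] at h
  exact eq_words (lt_of_blt h.1.1) (lt_of_blt h.1.2) h.2

/-- a transposition of the triples -/
def trip (i : ℕ) : List ℕ × ℕ := triples.getD i ([], 0)

/-- a product of transpositions of the triples -/
def tripW (l : List ℕ) : List ℕ := l.flatMap fun i => tw (trip i)

/-- a cube of a translation -/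
def cubeW (c : ℕ × Bool) : List ℕ :=
  bif c.2 then powWord (tw (transl.getD c.1 ([], 0)) ++ [translLet.getD c.1 0]) 3
  else powWord ([translLet.getD c.1 0] ++ tw (transl.getD c.1 ([], 0))) 3

/-- the word for the spider relation -/
def spiderW : List ℕ :=
  cubesA.flatMap cubeW ++ ((tripW yOne).reverse ++ tripW yTwo) ++ cubesB.flatMap cubeW ++
    powWord spider 10 ++ cubesC.flatMap cubeW

/-- the word for the two forms of a translation -/
def transW : List ℕ := (tripW yOne').reverse ++ tripW yOne ++ cubesY.flatMap cubeW

/-- the word for the Coxeter element -/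
def coxW : List ℕ := coxConj ++ coxEl ++ coxConj.reverse ++ coxEl

theorem edge_par : ∀ g < 10, g ≠ 0 → par g < g ∧ edge (par g) g = true := by decide +kernel

theorem edge_cases : ∀ a < 10, ∀ b < 10, edge a b = true →
    (b ≠ 0 ∧ par b = a) ∨ (a ≠ 0 ∧ par a = b) := by decide +kernel

theorem coxChk : ((List.range 10).all fun a => (List.range 10).all fun b =>
    bif edge a b then wq [a, b, a] [b, a, b] else wq [a, b] [b, a]) = true := by decide +kernel

theorem hepLt : (heptad.all fun p => okW (tw p)) = true ∧ heptad.length = 7 := by decide +kernel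

theorem hepComm : (heptad.all fun p => heptad.all fun q => wq (tw p ++ tw q) (tw q ++ tw p)) = true := by
  decide +kernel

theorem hepProd : wq (heptad.flatMap tw) [] = true := by decide +kernel

theorem spiderChk : wq (tw (spiderFive.getD 0 ([], 0))) (powWord spider 5) = true := by decide +kernel

theorem cubeChk : ((List.range 6).all fun j =>
    okW (tw (transl.getD j ([], 0))) && Nat.blt (translLet.getD j 0) 10 &&
      wq (powWord (tw (transl.getD j ([], 0)) ++ [translLet.getD j 0]) 3) [] &&
      wq (powWord ([translLet.getD j 0] ++ tw (transl.getD j ([], 0))) 3) []) = true := by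
  decide +kernel

theorem cubeLt : ((cubesA ++ cubesB ++ cubesC ++ cubesY).all fun c => Nat.blt c.1 6) = true := by
  decide +kernel

theorem swapChk : ((List.range 6).all fun i =>
    okW (tw (trip i)) && Nat.blt (swapPerm.getD i 0) 6 &&
      wq (swapWord ++ tw (trip i) ++ swapWord.reverse) (tw (trip (swapPerm.getD i 0)))) = true := by
  decide +kernel

theorem permChk : yOne.map (fun i => swapPerm.getD i 0) = yTwo ∧
    yTwo.map (fun i => swapPerm.getD i 0) = yOne' ∧
    ((yOne ++ yTwo ++ yOne').all fun i => Nat.blt i 6) = true ∧
    okW swapWord = true ∧ okW coxConj = true := by decide +kernel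

theorem spiderRed : reduces edge 10 spiderMoves spiderW = true := by decide +kernel

theorem transRed : reduces edge 10 transMoves transW = true := by decide +kernel

theorem coxRed : reduces edge 10 coxMoves coxW = true := by decide +kernel

end CfsgLib.Fi23Mult
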