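import Cfsg.Agent.Lib.Fi23Pres.TransClass
import Cfsg.Agent.Lib.Fi23Mult.Check
import Cfsg.Agent.Lib.Schur.OddSplit
import Cfsg.Agent.Lib.Schur.StemTriple

/-!
# The Schur multiplier of Fi23 is trivial

In a central extension the lifts of commuting transpositions commute. Suitable lifts of the generators
satisfy the Coxeter relations; seven commuting transpositions with product one, a fifth power equal to a
transposition and an element exchanging two translations then give the two further relations.
-/

set_option autoImplicit false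
set_option linter.style.haveILetI false
set_option maxRecDepth 100000

open scoped commutatorElement

namespace CfsgLib.Fi23Mult

open CfsgLib.CosetEnum CfsgLib.Fi23Pres Cfsg.Spor

theorem fi22_perfect : commutator Fi22 = ⊤ := by
  haveI := Fi22Pres.isFi22.1
  refine (Subgroup.Normal.eq_bot_or_eq_top (inferInstance : (commutator Fi22).Normal)).resolve_left
    fun h => ?_
  have hc : ∀ a b : Fi22, a * b = b * a := fun a b =>
    (Subgroup.mem_center_iff.1 (((commutator_eq_bot_iff_center_eq_top (G := Fi22)).1 h).symm ▸
      Subgroup.mem_top b)) a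
  letI : CommGroup Fi22 := { (inferInstance : Group Fi22) with mul_comm := hc }
  have hp : (Nat.card Fi22).Prime := IsSimpleGroup.prime_card
  rw [Fi22Pres.card_faithful.1] at hp
  rcases (Nat.dvd_prime hp).1 (show 2 ∣ 64561751654400 by norm_num) with e | e <;> norm_num at e

theorem fi23_perfect : commutator Fi23 = ⊤ := by
  haveI := isFi23.1
  refine (Subgroup.Normal.eq_bot_or_eq_top (inferInstance : (commutator Fi23).Normal)).resolve_left
    fun h => ?_
  have hc : ∀ a b : Fi23, a * b = b * a := fun a b =>
    (Subgroup.mem_center_iff.1 (((commutator_eq_bot_iff_center_eq_top (G := Fi23)).1 h).symm ▸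
      Subgroup.mem_top b)) a
  letI : CommGroup Fi23 := { (inferInstance : Group Fi23) with mul_comm := hc }
  have hp : (Nat.card Fi23).Prime := IsSimpleGroup.prime_card
  rw [card_faithful.1] at hp
  rcases (Nat.dvd_prime hp).1 (show 2 ∣ 4089470473293004800 by norm_num) with e | e <;> norm_num at e

theorem subA_perfect : ⁅(⊤ : Subgroup subA), (⊤ : Subgroup subA)⁆ = ⊤ := by
  classical
  obtain ⟨hc2, ⟨q⟩, hnc⟩ := subA_cover
  let π : subA →* Fi22 := q.toMonoidHom.comp (QuotientGroup.mk' (Subgroup.center subA))
  have hπ : Function.Surjective π := q.surjective.comp (QuotientGroup.mk'_surjective _)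
  have hker : ∀ x, π x = 1 ↔ x ∈ Subgroup.center subA := fun x => by
    show q _ = 1 ↔ _
    rw [map_eq_one_iff q q.injective, QuotientGroup.mk'_apply, QuotientGroup.eq_one_iff]
  rw [← commutator_def]
  by_contra hne
  obtain ⟨a, -, huniq⟩ := (Nat.card_eq_two_iff' (1 : Subgroup.center subA)).1 hc2
  have hlift : ∀ x, ∃ d ∈ commutator subA, π d = π x := fun x =>
    Schur.Triple.exists_mem_commutator π hπ (fi22_perfect ▸ Subgroup.mem_top _)
  have hdis : Disjoint (Subgroup.center subA) (commutator subA) :=
    Subgroup.disjoint_def.2 fun {x} hxc hx => by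
      by_contra hx1
      refine hne ((Subgroup.eq_top_iff' _).2 fun y => ?_)
      obtain ⟨d, hd, e⟩ := hlift y
      have hz : d⁻¹ * y ∈ Subgroup.center subA :=
        (hker _).1 (by rw [map_mul, map_inv, e, inv_mul_cancel])
      by_cases hz1 : d⁻¹ * y = 1
      · rwa [← inv_mul_eq_one.1 hz1]
      · have ea := huniq ⟨x, hxc⟩ fun h => hx1 (congrArg Subtype.val h)
        have eb := huniq ⟨_, hz⟩ fun h => hz1 (congrArg Subtype.val h)
        have e' : x = d⁻¹ * y := congrArg Subtype.val (ea.trans eb.symm)
        rw [show y = d * x by rw [e', mul_inv_cancel_left]]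
        exact mul_mem hd hx
  refine hnc (commutator subA)
    (Subgroup.isComplement'_of_disjoint_and_mul_eq_univ hdis (Set.eq_univ_of_forall fun x => ?_))
  obtain ⟨d, hd, e⟩ := hlift x
  exact Set.mem_mul.2 ⟨x * d⁻¹, (hker _).1 (by rw [map_mul, map_inv, e, mul_inv_cancel]), d, hd,
    inv_mul_cancel_right x d⟩

theorem gen_conj {g : ℕ} (hg : g < 10) : ∃ c : Fi23, c * central * c⁻¹ = gen g := by
  obtain ⟨-, h⟩ := std_spec (g + 1) (by omega)
  have e : family (g + 1) = gen g := by
    have e' : famWord (g + 1) = [g] := by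
      unfold famWord
      rw [show Nat.beq (g + 1) 0 = false from rfl, pick_false]
      simp
    rw [family, e', prodW_cons, prodW_nil, mul_one]
  rw [e] at h
  exact ⟨(coreRep certA gen (stdTuple.getD (g + 1) 0))⁻¹, by rw [← h, conjAt, inv_inv]⟩

theorem tw_conj {p : List ℕ × ℕ} (hp : okW (tw p) = true) :
    ∃ c : Fi23, c * central * c⁻¹ = prodW gen (tw p) := by
  simp only [okW, tw, List.all_append, List.all_cons, Bool.and_eq_true, Nat.blt_eq] at hp
  obtain ⟨c, hc⟩ := gen_conj hp.2.1
  have hrev : ∀ l : List ℕ, prodW gen l.reverse = (prodW gen l)⁻¹ := fun l => by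
    induction l with
    | nil => simp
    | cons g l ih =>
      rw [List.reverse_cons, prodW_append, prodW_cons, prodW_cons, prodW_nil, mul_one, ih, mul_inv_rev,
        inv_eq_of_mul_eq_one_right (gen_sq g)]
  refine ⟨prodW gen p.1 * c, ?_⟩
  rw [tw, prodW_append, prodW_cons, hrev, ← hc]
  group

section
variable {Γ : Type*} [Group Γ] {τ : Γ →* Fi23}

theorem ker_comm (hc : τ.ker ≤ Subgroup.center Γ) {z : Γ} (hz : τ z = 1) (a : Γ) : a * z = z * a :=
  Subgroup.mem_center_iff.1 (hc hz) a

/-- Lifts of commuting elements commute when one is a transposition. -/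
theorem lift_comm (hs : Function.Surjective τ) (hc : τ.ker ≤ Subgroup.center Γ) {a b : Γ}
    (ha : ∃ c : Fi23, c * central * c⁻¹ = τ a) (hab : Commute (τ a) (τ b)) : Commute a b := by
  obtain ⟨c, hca⟩ := ha
  obtain ⟨C, rfl⟩ := hs c
  obtain ⟨a', ha'⟩ : ∃ a', a' = C⁻¹ * a * C := ⟨_, rfl⟩
  set M := subA.comap τ with hM
  have hτa : τ a' = central := by rw [ha', map_mul, map_mul, map_inv, ← hca]; group
  have hb : C⁻¹ * b * C ∈ M := by
    rw [hM, Subgroup.mem_comap, ← centralizer_central, Subgroup.mem_centralizer_singleton_iff, ← hτa,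
      ← map_mul, ← map_mul, show C⁻¹ * b * C * a' = C⁻¹ * (b * a) * C by rw [ha']; group,
      show a' * (C⁻¹ * b * C) = C⁻¹ * (a * b) * C by rw [ha']; group]
    simp only [map_mul, map_inv]
    rw [hab.eq]
  have hzm : ∀ m ∈ M, ∃ z, τ z = 1 ∧ m * a' * m⁻¹ = a' * z := fun m hm => by
    refine ⟨a'⁻¹ * (m * a' * m⁻¹), ?_, (mul_inv_cancel_left _ _).symm⟩
    rw [map_mul, map_inv, map_mul, map_mul, map_inv, hτa, comm_central _ hm, mul_inv_cancel_right,
      inv_mul_cancel]
  have hMM : ⁅M, M⁆ ≤ Subgroup.centralizer {a'} := by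
    rw [Subgroup.commutator_le]
    intro m hm n hn
    rw [Subgroup.mem_centralizer_singleton_iff]
    obtain ⟨x, hx, ex⟩ := hzm m hm
    obtain ⟨y, hy, ey⟩ := hzm n hn
    obtain ⟨x', hx', ex'⟩ := hzm m⁻¹ (inv_mem hm)
    obtain ⟨y', hy', ey'⟩ := hzm n⁻¹ (inv_mem hn)
    have inv_eq : ∀ {u w w' : Γ}, τ w = 1 → u * a' * u⁻¹ = a' * w → u⁻¹ * a' * u⁻¹⁻¹ = a' * w' →
        w * w' = 1 := fun {u w w'} hw e e' => by
      rw [inv_inv] at e'
      have : u⁻¹ * (u * a' * u⁻¹) * u = a' * w' * w := by
        rw [e, show u⁻¹ * (a' * w) * u = u⁻¹ * a' * (w * u) by group, ← ker_comm hc hw u,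
          ← mul_assoc, e']
      rw [show u⁻¹ * (u * a' * u⁻¹) * u = a' by group, mul_assoc, left_eq_mul,
        ker_comm hc hw w'] at this
      exact this
    have hx2 := inv_eq hx ex ex'
    have hy2 := inv_eq hy ey ey'
    have step : ∀ {u w v : Γ}, τ v = 1 → u * a' * u⁻¹ = a' * w →
        u * (a' * v) * u⁻¹ = a' * (w * v) := fun {u w v} hv e => by
      rw [show u * (a' * v) * u⁻¹ = u * a' * (v * u⁻¹) by group, ← ker_comm hc hv u⁻¹, ← mul_assoc, e,
        mul_assoc]
    have e : ⁅m, n⁆ * a' * ⁅m, n⁆⁻¹ = a' := by
      rw [commutatorElement_def, show m * n * m⁻¹ * n⁻¹ * a' * (m * n * m⁻¹ * n⁻¹)⁻¹ =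
        m * (n * (m⁻¹ * (n⁻¹ * a' * n⁻¹⁻¹) * m⁻¹⁻¹) * n⁻¹) * m⁻¹ by group, ey',
        step hy' ex', step (by rw [map_mul, hx', hy', mul_one]) ey,
        step (by rw [map_mul, map_mul, hy, hx', hy', mul_one, mul_one]) ex,
        ← mul_assoc y x', ker_comm hc hx' y, mul_assoc x', hy2, mul_one, hx2, mul_one]
    calc ⁅m, n⁆ * a' = ⁅m, n⁆ * a' * ⁅m, n⁆⁻¹ * ⁅m, n⁆ := (inv_mul_cancel_right _ _).symm
      _ = a' * ⁅m, n⁆ := by rw [e]
  have hmap : ⁅M, M⁆.map τ = subA := by
    rw [Subgroup.map_commutator, hM, Subgroup.map_comap_eq_self_of_surjective hs]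
    have h := congrArg (Subgroup.map subA.subtype) subA_perfect
    rwa [Subgroup.map_commutator, ← MonoidHom.range_eq_map, Subgroup.range_subtype] at h
  have hb' : τ (C⁻¹ * b * C) ∈ subA := hb
  rw [← hmap] at hb'
  obtain ⟨d, hd, ed⟩ := Subgroup.mem_map.1 hb'
  have hz : τ (d⁻¹ * (C⁻¹ * b * C)) = 1 := by rw [map_mul, map_inv, ed, inv_mul_cancel]
  have hda : d * a' = a' * d := Subgroup.mem_centralizer_singleton_iff.1 (hMM hd)
  have key : Commute a' (C⁻¹ * b * C) := by
    rw [show C⁻¹ * b * C = d * (d⁻¹ * (C⁻¹ * b * C)) by group]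
    exact Commute.mul_right hda.symm (ker_comm hc hz a')
  have := key.map (MulAut.conj C).toMonoidHom
  simpa [ha', mul_assoc] using this

/-- Lifts satisfying the Coxeter relations, with a common square. -/
theorem exists_lifts (hs : Function.Surjective τ) (hc : τ.ker ≤ Subgroup.center Γ) :
    ∃ (t : ℕ → Γ) (c : Γ), τ c = 1 ∧ (∀ g, τ (t g) = gen g) ∧ (∀ g < 10, t g * t g = c) ∧
      (∀ a < 10, ∀ b < 10, edge a b = false → Commute (t a) (t b)) ∧
      ∀ a < 10, ∀ b < 10, edge a b = true → t a * t b * t a = t b * t a * t b := by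
  classical
  have hrel : ∀ a < 10, ∀ b < 10, (edge a b = true → gen a * gen b * gen a = gen b * gen a * gen b) ∧
      (edge a b = false → Commute (gen a) (gen b)) := by
    intro a ha b hb
    have h := List.all_eq_true.1 (List.all_eq_true.1 coxChk a (List.mem_range.2 ha)) b (List.mem_range.2 hb)
    cases hE : edge a b
    · rw [hE, cond_false] at h
      refine ⟨fun h' => absurd h' (by simp), fun _ => ?_⟩
      have e := wq_spec h
      simp only [prodW_cons, prodW_nil, mul_one] at e
      exact e
    · rw [hE, cond_true] at h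
      refine ⟨fun _ => ?_, fun h' => absurd h' (by simp)⟩
      have e := wq_spec h
      simp only [prodW_cons, prodW_nil, mul_one, ← mul_assoc] at e
      exact e
  have hstep : ∀ k ≤ 10, ∃ t : ℕ → Γ, (∀ g, τ (t g) = gen g) ∧
      ∀ g < k, g ≠ 0 → t (par g) * t g * t (par g) = t g * t (par g) * t g := by
    intro k
    induction k with
    | zero =>
      intro _
      exact ⟨fun g => (hs (gen g)).choose, fun g => (hs (gen g)).choose_spec, fun g hg => by omega⟩
    | succ k ih =>
      intro hk
      obtain ⟨t, ht, hbr⟩ := ih (by omega)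
      by_cases hk0 : k = 0
      · exact ⟨t, ht, fun g hg h0 => by omega⟩
      obtain ⟨hp, hpe⟩ := edge_par k (by omega) hk0
      set a := t (par k) with ha
      set b := t k with hb
      set z := (b * a * b)⁻¹ * (a * b * a) with hz
      have hz1 : τ z = 1 := by
        simp only [hz, map_mul, map_inv, ha, hb, ht]
        rw [(hrel _ (by omega) _ (by omega)).1 hpe, inv_mul_cancel]
      refine ⟨Function.update t k (b * z), fun g => ?_, fun g hg h0 => ?_⟩
      · by_cases e : g = k
        · subst e; rw [Function.update_self, map_mul, hz1, mul_one, hb, ht]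
        · rw [Function.update_of_ne e, ht]
      · have hpg := (edge_par g (by omega) h0).1
        rw [Function.update_of_ne (show par g ≠ k by omega)]
        by_cases e : g = k
        · subst e
          rw [Function.update_self, ← ha]
          have e1 : a * (b * z) * a = a * b * a * z := by
            rw [mul_assoc a, mul_assoc b, ← ker_comm hc hz1 a, ← mul_assoc, ← mul_assoc]
          have e2 : b * z * a * (b * z) = b * a * b * z * z := by
            rw [mul_assoc b z a, ← ker_comm hc hz1 a, ← mul_assoc b a z, mul_assoc (b * a) z,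
              ← mul_assoc z b, ← ker_comm hc hz1 b]
            group
          rw [e1, e2, hz]
          group
        · rw [Function.update_of_ne e]; exact hbr g (by omega) h0
  obtain ⟨t, ht, hbr⟩ := hstep 10 le_rfl
  have hsq : τ (t 0 * t 0) = 1 := by rw [map_mul, ht, gen_sq]
  refine ⟨t, t 0 * t 0, hsq, ht, fun g => ?_, fun a ha b hb hE => ?_, fun a ha b hb hE => ?_⟩
  · induction g using Nat.strong_induction_on with
    | _ g ih =>
      intro hg
      by_cases h0 : g = 0
      · rw [h0]
      have hp := (edge_par g hg h0).1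
      have e := hbr g hg h0
      set a := t (par g)
      have hb : t g = (a * t g) * a * (a * t g)⁻¹ := by rw [e]; group
      calc t g * t g = (a * t g) * a * (a * t g)⁻¹ * ((a * t g) * a * (a * t g)⁻¹) := by rw [← hb]
        _ = (a * t g) * (a * a) * (a * t g)⁻¹ := by group
        _ = t 0 * t 0 := by
          rw [ih _ hp (by omega), ker_comm hc hsq, mul_inv_cancel_right]
  · refine lift_comm hs hc (ht a ▸ gen_conj ha) ?_
    rw [ht, ht]
    exact (hrel a ha b hb).2 hE
  · rcases edge_cases a ha b hb hE with ⟨h0, rfl⟩ | ⟨h0, rfl⟩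
    · exact hbr b hb h0
    · exact (hbr a ha h0).symm

end

/-- the index of a generator -/
def idx (x : Fi23.Gen) : ℕ := letters.idxOf x

theorem idx_facts : ∀ x : Fi23.Gen, idx x < 10 := by intro x; cases x <;> decide

theorem coxLabel_eq : ∀ x y : Fi23.Gen, coxLabel Fi23.edges x y =
    if x = y then 1 else if edge (idx x) (idx y) then 3 else 2 := by
  intro x y; cases x <;> cases y <;> decide +kernel

theorem genOf_idx {P : Type*} [Group P] (t : ℕ → P) {g : ℕ} (hg : g < 10) :
    genOf letters (fun x => t (idx x)) g = t g := by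
  interval_cases g <;> rfl

theorem prodW_genOf {P : Type*} [Group P] (t : ℕ → P) :
    ∀ {w : List ℕ}, okW w = true → prodW (genOf letters fun x => t (idx x)) w = prodW t w := by
  intro w
  induction w with
  | nil => intro _; rfl
  | cons g w ih =>
    intro h
    simp only [okW, List.all_cons, Bool.and_eq_true, Nat.blt_eq] at h
    rw [prodW_cons, prodW_cons, genOf_idx t h.1, ih (by simpa [okW] using h.2)]

/-- Exact lifts of all relators split a stem extension. -/
theorem exact_false {E : Type} [Group E] [Finite E] {τ : E →* Fi23} (hτ : Cfsg.IsStemExtension τ)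
    {ℓ : ℕ} (hℓ : ℓ.Prime) (hk : Nat.card τ.ker = ℓ) {t : ℕ → E} (ht : ∀ g < 10, τ (t g) = gen g)
    (H : CoxLifts edge 10 t) (h1 : prodW t (powWord spider 10) = 1)
    (h2 : prodW t (powWord coxEl 9) = 1) : False := by
  let f : Fi23.Gen → E := fun x => t (idx x)
  have hf : ∀ x, f x * f x = 1 := fun x => H.sq _ (idx_facts x)
  have hrels : ∀ r ∈ coxRelators Fi23.edges ∪ {r | r ∈ Fi23.extra}, FreeGroup.lift f r = 1 := by
    rintro r (⟨x, -, y, -, rfl⟩ | hr)
    · rw [map_pow, map_mul, FreeGroup.lift_apply_of, FreeGroup.lift_apply_of, coxLabel_eq]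
      by_cases hxy : x = y
      · subst hxy; rw [if_pos rfl, pow_one]; exact hf x
      rw [if_neg hxy]
      cases hE : edge (idx x) (idx y)
      · rw [if_neg (by simp), pow_two]
        have hcm := H.comm _ (idx_facts x) _ (idx_facts y) hE
        rw [hcm.symm.mul_mul_mul_comm]
        show f x * f x * (f y * f y) = 1
        rw [hf, hf, one_mul]
      · rw [if_pos rfl, pow_succ, pow_two]
        show f x * f y * (f x * f y) * (f x * f y) = 1
        rw [show f x * f y * (f x * f y) * (f x * f y) = f x * f y * f x * (f y * f x * f y) by group,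
          show f y * f x * f y = f x * f y * f x from
            (H.braid _ (idx_facts x) _ (idx_facts y) hE).symm,
          show f x * f y * f x * (f x * f y * f x) = f x * f y * (f x * f x) * (f y * f x) by group,
          hf, mul_one, show f x * f y * (f y * f x) = f x * (f y * f y) * f x by group, hf, mul_one, hf]
    · have he := extraWords
      unfold ExtraWords Fi23.extra extraW at he
      rw [List.forall₂_cons] at he
      obtain ⟨e1, he⟩ := he
      rw [List.forall₂_cons] at he
      obtain ⟨e2, -⟩ := he
      simp only [Set.mem_ofPred_eq, Fi23.extra, List.mem_cons, List.not_mem_nil, or_false] at hr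
      rcases hr with rfl | rfl
      · rw [e1 E f hf, prodW_genOf t (by decide)]; exact h1
      · rw [e2 E f hf, prodW_genOf t (by decide)]; exact h2
  let s : Fi23 →* E := PresentedGroup.toGroup hrels
  have hτs : τ.comp s = MonoidHom.id Fi23 := PresentedGroup.ext fun x => by
    show τ (s (PresentedGroup.of x)) = _
    rw [PresentedGroup.toGroup.of]
    show τ (t (idx x)) = _
    rw [ht _ (idx_facts x)]
    cases x <;> rfl
  have hsec : ∀ g, τ (s g) = g := fun g => DFunLike.congr_fun hτs g
  have hperf : commutator E = ⊤ := by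
    rw [← sup_of_le_left hτ.2.2, ← Subgroup.comap_map_eq, commutator_def, Subgroup.map_commutator,
      Subgroup.map_top_of_surjective τ hτ.1, ← commutator_def, fi23_perfect, Subgroup.comap_top]
  have hle : commutator E ≤ s.range := by
    rw [commutator_def, Subgroup.commutator_le]
    intro a _ b _
    have key : ∀ x : E, ∃ z, τ z = 1 ∧ x = s (τ x) * z := fun x =>
      ⟨(s (τ x))⁻¹ * x, by rw [map_mul, map_inv, hsec, inv_mul_cancel], (mul_inv_cancel_left _ _).symm⟩
    obtain ⟨za, hza, ea⟩ := key a
    obtain ⟨zb, hzb, eb⟩ := key b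
    refine ⟨⁅τ a, τ b⁆, ?_⟩
    rw [map_commutatorElement]
    exact (CfsgLib.Schur.commutatorElement_congr τ hτ.2.1 (by rw [hsec]) (by rw [hsec])).symm
  have hbot : τ.ker = ⊥ := (Subgroup.eq_bot_iff_forall _).2 fun z hz => by
    obtain ⟨g, rfl⟩ := hle (hperf ▸ Subgroup.mem_top z)
    have : g = 1 := by rw [← hsec g]; exact hz
    rw [this, map_one]
  rw [hbot, Subgroup.card_bot] at hk
  exact hℓ.one_lt.ne hk

/-- The product of the lifts of the conjugates. -/
theorem rev_inv {E : Type*} [Group E] {t : ℕ → E} (H : CoxLifts edge 10 t) :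
    ∀ {l : List ℕ}, okW l = true → prodW t l.reverse = (prodW t l)⁻¹ := by
  intro l
  induction l with
  | nil => intro _; simp
  | cons g l ih =>
    intro h
    simp only [okW, List.all_cons, Bool.and_eq_true, Nat.blt_eq] at h
    rw [List.reverse_cons, prodW_append, prodW_cons, prodW_cons, prodW_nil, mul_one,
      ih (by simpa [okW] using h.2), mul_inv_rev, inv_eq_of_mul_eq_one_right (H.sq g h.1)]

theorem tw_sq {E : Type*} [Group E] {t : ℕ → E} (H : CoxLifts edge 10 t) {p : List ℕ × ℕ}
    (hp : okW (tw p) = true) : prodW t (tw p) * prodW t (tw p) = 1 := by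
  simp only [okW, tw, List.all_append, List.all_cons, Bool.and_eq_true] at hp
  rw [tw, prodW_append, prodW_cons, rev_inv H (by simpa [okW] using hp.1)]
  calc _ = prodW t p.1 * (t p.2 * t p.2) * (prodW t p.1)⁻¹ := by group
    _ = 1 := by rw [H.sq _ (Nat.blt_eq ▸ hp.2.1), mul_one, mul_inv_cancel]

theorem no_stem {E : Type} [Group E] [Finite E] {τ : E →* Fi23} (hτ : Cfsg.IsStemExtension τ)
    {ℓ : ℕ} (hℓ : ℓ.Prime) (hk : Nat.card τ.ker = ℓ) : False := by
  classical
  have hc := hτ.2.1
  have hpow : ∀ {z : E}, τ z = 1 → z ^ ℓ = 1 := fun {z} hz => by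
    have := pow_card_eq_one' (x := (⟨z, hz⟩ : τ.ker))
    rw [hk] at this
    exact congrArg Subtype.val this
  have hkc : ∀ {z : E}, τ z = 1 → ∀ a : E, a * z = z * a := fun hz a => ker_comm hc hz a
  obtain ⟨t, c, hcK, ht, hsq, hcomm, hbraid⟩ := exists_lifts hτ.1 hc
  have hgen : ∀ w, τ (prodW t w) = prodW gen w := fun w => by rw [map_prodW]; simp only [ht]
  -- rescaling by a central element
  have scale : ∀ {u : ℕ → E} {z : E}, τ z = 1 →
      (∀ a < 10, ∀ b < 10, edge a b = false → Commute (u a) (u b)) →
      (∀ a < 10, ∀ b < 10, edge a b = true → u a * u b * u a = u b * u a * u b) →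
      (∀ g < 10, u g * u g * (z * z) = 1) → CoxLifts edge 10 fun g => u g * z := by
    intro u z hz h2 h3 h1
    refine ⟨fun a ha => ?_, fun a ha b hb hE => ?_, fun a ha b hb hE => ?_⟩
    · rw [show u a * z * (u a * z) = u a * (z * u a) * z by group, ← hkc hz (u a),
        show u a * (u a * z) * z = u a * u a * (z * z) by group]
      exact h1 a ha
    · have hzc : ∀ x, Commute x z := fun x => hkc hz x
      exact ((h2 a ha b hb hE).mul_right (hzc _)).mul_left ((hzc _).symm.mul_right (Commute.refl z))
    · have e : ∀ p q : E, p * z * (q * z) * (p * z) = p * q * p * (z * z * z) := fun p q => by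
        rw [show p * z * (q * z) * (p * z) = p * (z * q) * (z * p) * z by group, ← hkc hz q,
          ← hkc hz p, show p * (q * z) * (p * z) * z = p * q * (z * p) * (z * z) by group, ← hkc hz p]
        group
      rw [e, e, h3 a ha b hb hE]
  rcases hℓ.eq_two_or_odd with rfl | hodd
  · -- the prime two: seven commuting transpositions give square one
    have hinv : ∀ {z : E}, τ z = 1 → z * z = 1 := fun hz => by rw [← pow_two]; exact hpow hz
    have hc1 : c = 1 := by
      let P : List ℕ × ℕ → E := fun p => prodW t p.1 * t p.2 * (prodW t p.1)⁻¹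
      have hP : ∀ p ∈ heptad, P p * P p = c ∧ τ (P p) = prodW gen (tw p) := by
        intro p hp
        have hok := List.all_eq_true.1 hepLt.1 p hp
        simp only [okW, tw, List.all_append, List.all_cons, Bool.and_eq_true, Nat.blt_eq] at hok
        simp only [P]
        refine ⟨?_, ?_⟩
        · calc _ = prodW t p.1 * (t p.2 * t p.2) * (prodW t p.1)⁻¹ := by group
            _ = c := by rw [hsq _ hok.2.1, hkc hcK, mul_inv_cancel_right]
        · have hrev : ∀ l : List ℕ, prodW gen l.reverse = (prodW gen l)⁻¹ := fun l => by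
            induction l with
            | nil => simp
            | cons g l ih =>
              rw [List.reverse_cons, prodW_append, prodW_cons, prodW_cons, prodW_nil, mul_one, ih,
                mul_inv_rev, inv_eq_of_mul_eq_one_right (gen_sq g)]
          rw [map_mul, map_mul, map_inv, hgen, ht, tw, prodW_append, prodW_cons, hrev, mul_assoc]
      have hPc : ∀ p ∈ heptad, ∀ q ∈ heptad, Commute (P p) (P q) := fun p hp q hq => by
        refine lift_comm hτ.1 hc (by rw [(hP p hp).2]; exact tw_conj (List.all_eq_true.1 hepLt.1 p hp)) ?_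
        rw [(hP p hp).2, (hP q hq).2]
        have e := wq_spec (List.all_eq_true.1 (List.all_eq_true.1 hepComm p hp) q hq)
        rwa [prodW_append, prodW_append] at e
      have hsub : ∀ l : List (List ℕ × ℕ), (∀ p ∈ l, p ∈ heptad) →
          (l.map P).prod * (l.map P).prod = c ^ l.length ∧ τ (l.map P).prod = prodW gen (l.flatMap tw) := by
        intro l
        induction l with
        | nil => intro _; simp
        | cons p l ih =>
          intro hl
          rw [List.forall_mem_cons] at hl
          obtain ⟨i1, i2⟩ := ih hl.2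
          have hcm : Commute (P p) (l.map P).prod := Commute.list_prod_right _ _ fun x hx => by
            obtain ⟨q, hq, rfl⟩ := List.mem_map.1 hx
            exact hPc p hl.1 q (hl.2 q hq)
          rw [List.map_cons, List.prod_cons, List.flatMap_cons, prodW_append, map_mul, (hP p hl.1).2, i2,
            hcm.symm.mul_mul_mul_comm, (hP p hl.1).1, i1, List.length_cons, pow_succ']
          exact ⟨rfl, rfl⟩
      obtain ⟨h7, hτ7⟩ := hsub heptad fun p hp => hp
      rw [hepLt.2, wq_spec hepProd, prodW_nil] at *
      rw [hinv hτ7, show (7 : ℕ) = 2 * 3 + 1 from rfl, pow_succ, pow_mul, hpow hcK, one_pow, one_mul] at h7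
      exact h7.symm
    have H : CoxLifts edge 10 t := ⟨fun a ha => by rw [hsq a ha, hc1], hcomm, hbraid⟩
    have hk1 : prodW t (powWord spider 10) = 1 := by
      set p := spiderFive.getD 0 ([], 0)
      have hp : okW (tw p) = true := by
        have h := spiderChk
        simp only [wq, Bool.and_eq_true] at h
        exact h.1.1
      have hz : τ ((prodW t (tw p))⁻¹ * prodW t (powWord spider 5)) = 1 := by
        rw [map_mul, map_inv, hgen, hgen, wq_spec spiderChk, inv_mul_cancel]
      set z := (prodW t (tw p))⁻¹ * prodW t (powWord spider 5) with hzdef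
      have e : prodW t (powWord spider 5) = prodW t (tw p) * z := by rw [hzdef, mul_inv_cancel_left]
      have e10 : prodW t (powWord spider 10) =
          prodW t (powWord spider 5) * prodW t (powWord spider 5) := by
        rw [← prodW_append]; rfl
      rw [e10, e, show prodW t (tw p) * z * (prodW t (tw p) * z) =
        prodW t (tw p) * (z * prodW t (tw p)) * z by group, ← hkc hz,
        show prodW t (tw p) * (prodW t (tw p) * z) * z = prodW t (tw p) * prodW t (tw p) * (z * z) by group,
        tw_sq H hp, hinv hz, mul_one]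
    set k := prodW t (powWord coxEl 9) with hkdef
    have hkK : τ k = 1 := by
      rw [hgen]
      exact modelA.rel _ (by decide +kernel)
    have hsc : ∀ w : List ℕ, prodW (fun g => t g * k) w = prodW t w * k ^ w.length := by
      intro w
      induction w with
      | nil => simp
      | cons g w ih =>
        rw [prodW_cons, prodW_cons, ih, List.length_cons, pow_succ']
        calc t g * k * (prodW t w * k ^ w.length) = t g * (k * prodW t w) * k ^ w.length := by group
          _ = _ := by rw [← hkc hkK]; group
    refine exact_false hτ hℓ hk (t := fun g => t g * k)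
      (fun g _ => by rw [map_mul, ht, hkK, mul_one])
      (scale hkK hcomm hbraid fun g hg => by rw [hsq g hg, hc1, hinv hkK, one_mul]) ?_ ?_
    · rw [hsc, hk1, one_mul, show (powWord spider 10).length = 2 * 45 from rfl, pow_mul, hpow hkK, one_pow]
    · rw [hsc, ← hkdef, show (powWord coxEl 9).length = 2 * 31 + 1 from rfl, pow_succ, pow_mul,
        hpow hkK, one_pow, one_mul, hinv hkK]
  · -- odd primes
    obtain ⟨m, hm⟩ : ∃ m, ℓ = 2 * m + 1 := ⟨ℓ / 2, by omega⟩
    have hsqr : ∀ {z : E}, τ z = 1 → z * z = 1 → z = 1 := fun {z} hz h => by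
      have := hpow hz
      rwa [hm, pow_succ, pow_mul, pow_two, h, one_pow, one_mul] at this
    have hzK : τ (c ^ m) = 1 := by rw [map_pow, hcK, one_pow]
    have H : CoxLifts edge 10 fun g => t g * c ^ m :=
      scale hzK hcomm hbraid fun g hg => by
        rw [hsq g hg, ← pow_add, ← pow_succ', show m + m + 1 = ℓ by omega, hpow hcK]
    set u : ℕ → E := fun g => t g * c ^ m
    have hu : ∀ g, τ (u g) = gen g := fun g => by rw [map_mul, ht, hzK, mul_one]
    have hug : ∀ w, τ (prodW u w) = prodW gen w := fun w => by rw [map_prodW]; simp only [hu]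
    -- lifts which are involutions are unique
    have uniq : ∀ {a b : E}, a * a = 1 → b * b = 1 → τ a = τ b → a = b := fun {a b} ha hb e => by
      have hz : τ (a⁻¹ * b) = 1 := by rw [map_mul, map_inv, e, inv_mul_cancel]
      have e' : b = a * (a⁻¹ * b) := (mul_inv_cancel_left a b).symm
      have : a⁻¹ * b * (a⁻¹ * b) = 1 := by
        have h := hb
        rw [e', show a * (a⁻¹ * b) * (a * (a⁻¹ * b)) = a * ((a⁻¹ * b) * a) * (a⁻¹ * b) by group,
          ← hkc hz a, show a * (a * (a⁻¹ * b)) * (a⁻¹ * b) = a * a * (a⁻¹ * b * (a⁻¹ * b)) by group,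
          ha, one_mul] at h
        exact h
      rw [e', hsqr hz this, mul_one]
    have cube : ∀ {a b : E}, a * a = 1 → b * b = 1 → τ ((a * b) ^ 3) = 1 → (a * b) ^ 3 = 1 :=
      fun {a b} ha hb h => by
        refine hsqr h ?_
        have hai : a⁻¹ = a := inv_eq_of_mul_eq_one_right ha
        have hbi : b⁻¹ = b := inv_eq_of_mul_eq_one_right hb
        have hk := hkc h a
        have e : a * (a * b) ^ 3 * a⁻¹ = ((a * b) ^ 3)⁻¹ := by
          rw [← inv_pow, mul_inv_rev, ← conj_pow, hai, hbi]
          congr 1
          rw [← mul_assoc, ha, one_mul]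
        rw [hk, mul_inv_cancel_right] at e
        calc (a * b) ^ 3 * (a * b) ^ 3 = ((a * b) ^ 3)⁻¹ * (a * b) ^ 3 := by rw [← e]
          _ = 1 := inv_mul_cancel _
    have hcube : ∀ l : List (ℕ × Bool), (∀ x ∈ l, x ∈ cubesA ++ cubesB ++ cubesC ++ cubesY) →
        prodW u (l.flatMap cubeW) = 1 := by
      intro l
      induction l with
      | nil => intro _; rfl
      | cons x l ih =>
        intro hl
        rw [List.forall_mem_cons] at hl
        have hx := List.all_eq_true.1 cubeLt x hl.1
        rw [Nat.blt_eq] at hx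
        have h := List.all_eq_true.1 cubeChk x.1 (List.mem_range.2 hx)
        simp only [Bool.and_eq_true] at h
        obtain ⟨⟨⟨h1, h2⟩, h3⟩, h4⟩ := h
        rw [Nat.blt_eq] at h2
        rw [List.flatMap_cons, prodW_append, ih hl.2, mul_one]
        have q1 := wq_spec h3
        have q2 := wq_spec h4
        simp only [prodW_powWord, prodW_append, prodW_cons, prodW_nil, mul_one] at q1 q2
        have hsing : u (translLet.getD x.1 0) * u (translLet.getD x.1 0) = 1 := H.sq _ h2
        obtain ⟨i, b⟩ := x
        cases b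
        · simp only [cubeW, cond_false, prodW_powWord, prodW_append, prodW_cons, prodW_nil, mul_one]
          exact cube hsing (tw_sq H h1) (by rw [map_pow, map_mul, hu, hug, q2])
        · simp only [cubeW, cond_true, prodW_powWord, prodW_append, prodW_cons, prodW_nil, mul_one]
          exact cube (tw_sq H h1) hsing (by rw [map_pow, map_mul, hu, hug, q1])
    have hcube' : ∀ l : List (ℕ × Bool), l = cubesA ∨ l = cubesB ∨ l = cubesC ∨ l = cubesY →
        prodW u (l.flatMap cubeW) = 1 := fun l hl => hcube l fun x hx => by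
      rcases hl with rfl | rfl | rfl | rfl <;> simp [hx]
    -- the Coxeter element
    have hk2 : prodW u (powWord coxEl 9) = 1 := by
      set k := prodW u (powWord coxEl 9) with hkdef
      have hkK : τ k = 1 := by
        rw [hug]
        exact modelA.rel _ (by decide +kernel)
      refine hsqr hkK ?_
      have h := reduces_prod H coxRed
      rw [coxW, prodW_append, prodW_append, prodW_append, rev_inv H permChk.2.2.2.2] at h
      set U := prodW u coxConj
      set e := prodW u coxEl
      have he : k = e ^ 9 := by rw [hkdef, prodW_powWord]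
      have e1 : U * k * U⁻¹ = k⁻¹ := by
        rw [he, ← conj_pow, ← inv_pow]
        exact congrArg (· ^ 9) (eq_inv_of_mul_eq_one_left h)
      rw [hkc hkK, mul_inv_cancel_right] at e1
      calc k * k = k⁻¹ * k := by rw [← e1]
        _ = 1 := inv_mul_cancel k
    -- the spider element
    have hk1 : prodW u (powWord spider 10) = 1 := by
      set k := prodW u (powWord spider 10) with hkdef
      have hkK : τ k = 1 := by
        rw [hug]
        exact modelA.rel _ (by decide +kernel)
      refine hsqr hkK ?_
      have h := reduces_prod H spiderRed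
      simp only [spiderW, prodW_append] at h
      rw [hcube' _ (Or.inl rfl), hcube' _ (Or.inr (Or.inl rfl)), hcube' _ (Or.inr (Or.inr (Or.inl rfl))),
        one_mul, mul_one, mul_one] at h
      have ht' := reduces_prod H transRed
      simp only [transW, prodW_append] at ht'
      rw [hcube' _ (Or.inr (Or.inr (Or.inr rfl))), mul_one] at ht'
      have hok : ∀ l : List ℕ, (∀ i ∈ l, i < 6) → okW (tripW l) = true := fun l hl => by
        simp only [okW, tripW, List.all_eq_true, List.mem_flatMap]
        rintro g ⟨i, hi, hg⟩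
        have h := List.all_eq_true.1 swapChk i (List.mem_range.2 (hl i hi))
        simp only [Bool.and_eq_true, okW, List.all_eq_true] at h
        exact h.1.1 g hg
      have hmem : ∀ i ∈ yOne ++ yTwo ++ yOne', i < 6 := fun i hi => by
        have h := List.all_eq_true.1 permChk.2.2.1 i hi
        rwa [Nat.blt_eq] at h
      rw [rev_inv H (hok _ fun i hi => hmem i (by simp [hi]))] at h ht'
      set S := prodW u swapWord
      have hconj : ∀ l : List ℕ, (∀ i ∈ l, i < 6) →
          S * prodW u (tripW l) * S⁻¹ = prodW u (tripW (l.map fun i => swapPerm.getD i 0)) := by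
        intro l
        induction l with
        | nil => intro _; simp [tripW]
        | cons i l ih =>
          intro hl
          rw [List.forall_mem_cons] at hl
          have h := List.all_eq_true.1 swapChk i (List.mem_range.2 hl.1)
          simp only [Bool.and_eq_true, Nat.blt_eq] at h
          have h' := List.all_eq_true.1 swapChk _ (List.mem_range.2 h.1.2)
          simp only [Bool.and_eq_true] at h'
          have e : S * prodW u (tw (trip i)) * S⁻¹ = prodW u (tw (trip (swapPerm.getD i 0))) := by
            refine uniq ?_ (tw_sq H h'.1.1) ?_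
            · rw [show S * prodW u (tw (trip i)) * S⁻¹ * (S * prodW u (tw (trip i)) * S⁻¹) =
                S * (prodW u (tw (trip i)) * prodW u (tw (trip i))) * S⁻¹ by group, tw_sq H h.1.1,
                mul_one, mul_inv_cancel]
            · rw [map_mul, map_mul, hug, hug, ← rev_inv H permChk.2.2.2.1, hug, hug, ← prodW_append,
                ← prodW_append]
              exact wq_spec h.2
          simp only [tripW, List.flatMap_cons, List.map_cons, prodW_append]
          rw [show S * (prodW u (tw (trip i)) * prodW u (l.flatMap fun i => tw (trip i))) * S⁻¹ =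
            (S * prodW u (tw (trip i)) * S⁻¹) * (S * prodW u (tripW l) * S⁻¹) by simp only [tripW]; group,
            e, ih hl.2]
          rfl
      have c1 := hconj yOne fun i hi => hmem i (by simp [hi])
      have c2 := hconj yTwo fun i hi => hmem i (by simp [hi])
      rw [permChk.1] at c1
      rw [permChk.2.1] at c2
      set y1 := prodW u (tripW yOne)
      set y2 := prodW u (tripW yTwo)
      set y3 := prodW u (tripW yOne')
      have e3 : y3 = y1 := inv_mul_eq_one.1 ht'
      have ek : k = y2⁻¹ * y1 := by
        rw [hkdef, eq_inv_of_mul_eq_one_right h]; group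
      have e1 : S * k * S⁻¹ = k⁻¹ := by
        rw [ek, show S * (y2⁻¹ * y1) * S⁻¹ = (S * y2 * S⁻¹)⁻¹ * (S * y1 * S⁻¹) by group, c1, c2, e3]
        group
      rw [hkc hkK, mul_inv_cancel_right] at e1
      calc k * k = k⁻¹ * k := by rw [← e1]
        _ = 1 := inv_mul_cancel k
    exact exact_false hτ hℓ hk (fun g _ => hu g) H hk1 hk2

/-- The Schur multiplier of Fi23 is trivial. -/
theorem multiplier_fi23 : Cfsg.HasCyclicSchurMultiplier Fi23 1 :=
  CfsgLib.Schur.trivial_multiplier_of_prime fun _ hℓ _ _ _ _ hτ hk => no_stem hτ hℓ hk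

end CfsgLib.Fi23Mult
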